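import Cfsg.Agent.H410.BR.OmWitt
import Cfsg.Agent.Nodes.WittInst

/-!
# Transitivity of `Ω⁺` on the totally singular flags containing a maximal subspace (helper560, S4884 F-D)

* `exists_adapted` : a basis adapted to a flag;
* `coset` : `O Q = E Q · T · ⟨r⟩`, `T` the torus of a hyperbolic pair `e, f`, `r` a reflection fixing `e`, `f`;
* `exists_E_flag` : every totally singular flag whose set `K` of dimensions contains `n + 2` is the image under `E Q`
  of a standard flag `stdF W j` (`j = true` or `j = false`).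
-/

set_option autoImplicit false

namespace Cfsg.Agent.H560.FD

open Module QuadraticMap Cfsg
open Cfsg.Agent.LieClassical Cfsg.Agent.LieClassical.OrthCore Cfsg.Agent.LieClassical.OrthTrans
open Cfsg.Agent.TitsThree Cfsg.Agent.TitsThree.Siegel Cfsg.Agent.TitsThree.SiegelGen
  Cfsg.Agent.TitsThree.WittFrame Cfsg.Agent.TitsThree.WBridge Cfsg.Agent.TitsThree.KSideO

variable {F : Type*} [Field F]

/-! ### adapted bases -/

/-- **a basis adapted to a flag** -/
theorem exists_adapted {V : Type*} [AddCommGroup V] [Module F V] [FiniteDimensional F V] {m : ℕ} {K : Finset ℕ}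
    (hm : m ∈ K) {c : ℕ → Submodule F V} (hrk : ∀ k ∈ K, finrank F (c k) = k)
    (hmono : ∀ k ∈ K, ∀ l ∈ K, k ≤ l → c k ≤ c l) :
    ∃ u : Fin m → V, LinearIndependent F u ∧ ∀ i : Fin m, ∀ k ∈ K, (i : ℕ) < k → u i ∈ c k := by
  suffices H : ∀ l ≤ m, ∃ u : Fin l → V, LinearIndependent F u ∧ ∀ i : Fin l, ∀ k ∈ K, (i : ℕ) < k → u i ∈ c k from
    H m le_rfl
  intro l
  induction l with
  | zero => exact fun _ => ⟨fun i => i.elim0, linearIndependent_empty_type, fun i => i.elim0⟩
  | succ l ih =>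
    intro hl
    obtain ⟨u, hu, huc⟩ := ih (by omega)
    have hne : (K.filter fun k => l < k).Nonempty := ⟨m, Finset.mem_filter.2 ⟨hm, by omega⟩⟩
    set k0 := (K.filter fun k => l < k).min' hne with hk0
    have hk0m : k0 ∈ K.filter fun k => l < k := Finset.min'_mem _ hne
    obtain ⟨hk0K, hlk0⟩ := Finset.mem_filter.1 hk0m
    have h1 : finrank F (Submodule.span F (Set.range u)) = l := by
      rw [finrank_span_eq_card hu, Fintype.card_fin]
    obtain ⟨v, hv, hvn⟩ : ∃ v ∈ c k0, v ∉ Submodule.span F (Set.range u) := by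
      by_contra hcon
      push Not at hcon
      have h2 : c k0 ≤ Submodule.span F (Set.range u) := hcon
      have h3 := Submodule.finrank_mono h2
      rw [hrk k0 hk0K, h1] at h3
      omega
    refine ⟨Fin.snoc u v, ?_, ?_⟩
    · exact LinearIndependent.finSnoc hu hvn
    · intro i k hk hik
      rcases Fin.eq_castSucc_or_eq_last i with ⟨j, rfl⟩ | rfl
      · rw [Fin.snoc_castSucc]
        exact huc j k hk (by simpa using hik)
      · rw [Fin.snoc_last]
        refine hmono k0 hk0K k hk ?_ hv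
        exact Finset.min'_le _ _ (Finset.mem_filter.2 ⟨hk, by simpa using hik⟩)

/-! ### cosets of `E Q` -/

section coset

variable {V : Type*} [AddCommGroup V] [Module F V] {Q : QuadraticForm F V}

/-- the elements of the torus of `e, f`, times the reflection in `v` or not -/
structure TR (Q : QuadraticForm F V) (e f v : V) (hv : Q v ≠ 0) (k : V ≃ₗ[F] V) : Prop where
  he : ∃ c : F, k e = c • e
  hf : ∃ c : F, k f = c • f
  perp : (∀ z, polar Q e z = 0 → polar Q f z = 0 → k z = z) ∨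
    (∀ z, polar Q e z = 0 → polar Q f z = 0 → k z = refl Q v hv z)

theorem TR.mul {e f v : V} {hv : Q v ≠ 0} (hev : polar Q e v = 0) (hfv : polar Q f v = 0) {k l : V ≃ₗ[F] V}
    (hk : TR Q e f v hv k) (hl : TR Q e f v hv l) : TR Q e f v hv (k * l) := by
  obtain ⟨⟨c, hc⟩, ⟨d, hd⟩, hp⟩ := hk
  obtain ⟨⟨c', hc'⟩, ⟨d', hd'⟩, hp'⟩ := hl
  have hr : ∀ z, polar Q e z = 0 → polar Q f z = 0 →
      polar Q e (refl Q v hv z) = 0 ∧ polar Q f (refl Q v hv z) = 0 := by
    intro z h1 h2
    rw [refl_apply, sub_eq_add_neg, polar_add_right, polar_add_right, polar_neg_right, polar_neg_right,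
      polar_smul_right, polar_smul_right, hev, hfv, h1, h2]
    simp
  have hrr : ∀ z, refl Q v hv (refl Q v hv z) = z := fun z =>
    congrArg (fun g : V ≃ₗ[F] V => g z) (refl_mul_self hv)
  refine ⟨⟨c' * c, ?_⟩, ⟨d' * d, ?_⟩, ?_⟩
  · change k (l e) = _
    rw [hc', map_smul, hc, smul_smul]
  · change k (l f) = _
    rw [hd', map_smul, hd, smul_smul]
  · rcases hp' with hp' | hp'
    · rcases hp with hp | hp
      · left
        intro z h1 h2
        change k (l z) = z
        rw [hp' z h1 h2, hp z h1 h2]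
      · right
        intro z h1 h2
        change k (l z) = _
        rw [hp' z h1 h2, hp z h1 h2]
    · rcases hp with hp | hp
      · right
        intro z h1 h2
        obtain ⟨h3, h4⟩ := hr z h1 h2
        change k (l z) = _
        rw [hp' z h1 h2, hp _ h3 h4]
      · left
        intro z h1 h2
        obtain ⟨h3, h4⟩ := hr z h1 h2
        change k (l z) = _
        rw [hp' z h1 h2, hp _ h3 h4, hrr]

theorem TR.one {e f v : V} {hv : Q v ≠ 0} : TR Q e f v hv 1 :=
  ⟨⟨1, (one_smul _ _).symm⟩, ⟨1, (one_smul _ _).symm⟩, Or.inl fun _ _ _ => rfl⟩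

theorem TR.inv {e f v : V} {hv : Q v ≠ 0} (hev : polar Q e v = 0) (hfv : polar Q f v = 0) (he : e ≠ 0) (hf : f ≠ 0)
    {k : V ≃ₗ[F] V} (hk : TR Q e f v hv k) : TR Q e f v hv k⁻¹ := by
  obtain ⟨⟨c, hc⟩, ⟨d, hd⟩, hp⟩ := hk
  have hr : ∀ z, polar Q e z = 0 → polar Q f z = 0 →
      polar Q e (refl Q v hv z) = 0 ∧ polar Q f (refl Q v hv z) = 0 := by
    intro z h1 h2
    rw [refl_apply, sub_eq_add_neg, polar_add_right, polar_add_right, polar_neg_right, polar_neg_right,
      polar_smul_right, polar_smul_right, hev, hfv, h1, h2]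
    simp
  have hrr : ∀ z, refl Q v hv (refl Q v hv z) = z := fun z =>
    congrArg (fun g : V ≃ₗ[F] V => g z) (refl_mul_self hv)
  have hc0 : c ≠ 0 := by
    rintro rfl
    rw [zero_smul] at hc
    exact he ((LinearEquiv.map_eq_zero_iff k).1 hc)
  have hd0 : d ≠ 0 := by
    rintro rfl
    rw [zero_smul] at hd
    exact hf ((LinearEquiv.map_eq_zero_iff k).1 hd)
  have hki : ∀ z, k (k⁻¹ z) = z := fun z => k.apply_symm_apply z
  refine ⟨⟨c⁻¹, ?_⟩, ⟨d⁻¹, ?_⟩, ?_⟩
  · apply k.injective
    rw [hki, map_smul, hc, smul_smul, inv_mul_cancel₀ hc0, one_smul]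
  · apply k.injective
    rw [hki, map_smul, hd, smul_smul, inv_mul_cancel₀ hd0, one_smul]
  · rcases hp with hp | hp
    · left
      intro z h1 h2
      apply k.injective
      rw [hki, hp z h1 h2]
    · right
      intro z h1 h2
      obtain ⟨h3, h4⟩ := hr z h1 h2
      apply k.injective
      rw [hki, hp _ h3 h4, hrr]

/-- **`O Q = E Q · T · ⟨r⟩`** -/
theorem coset [FiniteDimensional F V] (hG : Good Q) {e f v : V} (hef : Hyp Q e f) (hv : Q v ≠ 0)
    (hev : polar Q e v = 0) (hfv : polar Q f v = 0) {g : V ≃ₗ[F] V} (hg : g ∈ O Q) :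
    ∃ h ∈ E Q, ∃ k ∈ O Q, g = h * k ∧ TR Q e f v hv k := by
  have he : e ≠ 0 := by
    rintro rfl
    have := hef.pair
    rw [polar_zero_left] at this
    exact zero_ne_one this
  have hf : f ≠ 0 := by
    rintro rfl
    have := hef.pair
    rw [polar_zero_right] at this
    exact zero_ne_one this
  rw [O_eq_closure hG.nondeg] at hg
  have hmulE : ∀ {k h : V ≃ₗ[F] V}, k ∈ O Q → h ∈ E Q → k * h * k⁻¹ ∈ E Q := fun hk hh => conj_mem_E hk hh
  induction hg using Subgroup.closure_induction with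
  | mem x hx =>
    rcases hx with ⟨u, hu, rfl⟩ | hx
    · have hq : ∀ α : F, Q (e + α • f) = α := by
        intro α
        rw [Q_add, QuadraticMap.map_smul, polar_smul_right, hef.left, hef.right, hef.pair, smul_zero, smul_eq_mul,
          mul_one]
        ring
      have ha : Q (e + Q u • f) ≠ 0 := by rw [hq]; exact hu
      have hb : Q (e + Q v • f) ≠ 0 := by rw [hq]; exact hv
      obtain ⟨c, d, t1, t2, t3⟩ := H410.BR.torus hef ha hb
      set A := refl Q u hu * refl Q _ ha with hA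
      set T := refl Q _ ha * refl Q _ hb with hT
      set C := refl Q _ hb * refl Q v hv with hC
      have hAE : A ∈ E Q := hG.refl_mul_refl_mem ha hu (hq _)
      have hCE : C ∈ E Q := hG.refl_mul_refl_mem hv hb (hq _).symm
      have hTO : T ∈ O Q := (O Q).mul_mem (refl_mem_O ha) (refl_mem_O hb)
      refine ⟨A * (T * C * T⁻¹), (E Q).mul_mem hAE (hmulE hTO hCE), T * refl Q v hv,
        (O Q).mul_mem hTO (refl_mem_O hv), ?_, ?_⟩
      · have e1 : A * (T * C * T⁻¹) * (T * refl Q v hv) = A * T * C * refl Q v hv := by group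
        rw [e1, hA, hT, hC]
        have s1 := refl_mul_self ha
        have s2 := refl_mul_self hb
        have s3 := refl_mul_self hv
        calc refl Q u hu = refl Q u hu * (refl Q _ ha * refl Q _ ha) * (refl Q _ hb * refl Q _ hb) *
              (refl Q v hv * refl Q v hv) := by rw [s1, s2, s3, mul_one, mul_one, mul_one]
          _ = _ := by simp only [mul_assoc]
      · refine TR.mul hev hfv ⟨⟨c, t1⟩, ⟨d, t2⟩, Or.inl t3⟩ ⟨⟨1, ?_⟩, ⟨1, ?_⟩, Or.inr fun _ _ _ => rfl⟩
        · rw [refl_apply, polar_comm Q v e, hev, mul_zero, zero_smul, sub_zero, one_smul]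
        · rw [refl_apply, polar_comm Q v f, hfv, mul_zero, zero_smul, sub_zero, one_smul]
    · exact ⟨x, Subgroup.subset_closure hx, 1, (O Q).one_mem, by rw [mul_one], TR.one⟩
  | one => exact ⟨1, (E Q).one_mem, 1, (O Q).one_mem, by rw [mul_one], TR.one⟩
  | mul x y _ _ hx hy =>
    obtain ⟨h, hh, k, hk, rfl, e1⟩ := hx
    obtain ⟨h', hh', k', hk', rfl, e1'⟩ := hy
    exact ⟨h * (k * h' * k⁻¹), (E Q).mul_mem hh (hmulE hk hh'), k * k', (O Q).mul_mem hk hk', by group,
      e1.mul hev hfv e1'⟩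
  | inv x _ hx =>
    obtain ⟨h, hh, k, hk, rfl, e1⟩ := hx
    exact ⟨k⁻¹ * h⁻¹ * k⁻¹⁻¹, hmulE ((O Q).inv_mem hk) ((E Q).inv_mem hh), k⁻¹, (O Q).inv_mem hk, by group,
      e1.inv hev hfv he hf⟩

end coset

/-! ### the flags -/

section flags

variable {ι : Type*} {Q : QuadraticForm F (ι → F)} {n : ℕ}

/-- the standard flag: `⟨b (i, true) : i < k⟩`, with `b (n + 1, j)` in dimension `n + 2` -/
def stdF (W : WFrame (PO Q) (n + 2)) (j : Bool) (k : ℕ) : Submodule F (ι → F) :=
  Submodule.span F {v | ∃ i : Fin (n + 2), (i : ℕ) < k ∧ v = (toFrame W).b (i, if (i : ℕ) = n + 1 then j else true)}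

theorem stdF_eq_range (W : WFrame (PO Q) (n + 2)) (j : Bool) {k : ℕ} (hk : k ≤ n + 2) :
    stdF W j k = Submodule.span F (Set.range fun i : Fin k =>
      (toFrame W).b (Fin.castLE hk i, if (i : ℕ) = n + 1 then j else true)) := by
  unfold stdF
  congr 1
  ext v
  constructor
  · rintro ⟨i, hi, rfl⟩
    exact ⟨⟨i, hi⟩, rfl⟩
  · rintro ⟨i, rfl⟩
    exact ⟨Fin.castLE hk i, i.2, rfl⟩

theorem finrank_stdF_le (W : WFrame (PO Q) (n + 2)) (j : Bool) {k : ℕ} (hk : k ≤ n + 2) :
    finrank F (stdF W j k) ≤ k := by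
  rw [stdF_eq_range W j hk]
  refine (finrank_range_le_card _).trans ?_
  rw [Fintype.card_fin]

theorem W_ee (W : WFrame (PO Q) (n + 2)) (i j : Fin (n + 2)) : polar Q (W.e i) (W.e j) = 0 := W.ee i j

theorem W_ff (W : WFrame (PO Q) (n + 2)) (i j : Fin (n + 2)) : polar Q (W.f i) (W.f j) = 0 := W.ff i j

theorem W_ef (W : WFrame (PO Q) (n + 2)) (i j : Fin (n + 2)) :
    polar Q (W.e i) (W.f j) = if i = j then 1 else 0 := W.ef i j

theorem W_fe (W : WFrame (PO Q) (n + 2)) (i j : Fin (n + 2)) :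
    polar Q (W.f i) (W.e j) = if i = j then 1 else 0 := W.fe i j

theorem W_e (W : WFrame (PO Q) (n + 2)) (i : Fin (n + 2)) : Q (W.e i) = 0 := (sing_iff Q).1 (W.e_sing i)

theorem W_f (W : WFrame (PO Q) (n + 2)) (i : Fin (n + 2)) : Q (W.f i) = 0 := (sing_iff Q).1 (W.f_sing i)

theorem linInd_e (W : WFrame (PO Q) (n + 2)) : LinearIndependent F W.e := by
  rw [Fintype.linearIndependent_iff]
  intro a ha i
  have h1 : polar Q (∑ j, a j • W.e j) (W.f i) = a i := by
    have h2 : ∀ s : Finset (Fin (n + 2)), polar Q (∑ j ∈ s, a j • W.e j) (W.f i) =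
        ∑ j ∈ s, a j * (if j = i then 1 else 0) := by
      intro s
      classical
      induction s using Finset.induction_on with
      | empty => rw [Finset.sum_empty, Finset.sum_empty, polar_zero_left]
      | insert b s hb ih =>
        rw [Finset.sum_insert hb, Finset.sum_insert hb, polar_add_left, ih, polar_smul_left, W_ef, smul_eq_mul]
    rw [h2]
    simp
  rw [ha, polar_zero_left] at h1
  exact h1.symm

/-- **transitivity of `E Q` on flags** -/
theorem exists_E_flag [Finite ι] (W : WFrame (PO Q) (n + 2)) (hG : Good Q) {K : Finset ℕ} (hK : ∀ k ∈ K, k ≤ n + 2)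
    (hN : n + 2 ∈ K) {c : ℕ → Submodule F (ι → F)} (hts : ∀ v ∈ c (n + 2), Q v = 0)
    (hrk : ∀ k ∈ K, finrank F (c k) = k) (hmono : ∀ k ∈ K, ∀ l ∈ K, k ≤ l → c k ≤ c l) :
    ∃ g ∈ E Q, ∃ j : Bool, ∀ k ∈ K, c k = (stdF W j k).map (g : (ι → F) →ₗ[F] (ι → F)) := by
  obtain ⟨u, hu, huc⟩ := exists_adapted hN hrk hmono
  have hum : ∀ i, u i ∈ c (n + 2) := fun i => huc i (n + 2) hN i.2
  have hus : ∀ i, Q (u i) = 0 := fun i => hts _ (hum i)
  have hup : ∀ i j, polar Q (u i) (u j) = 0 := by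
    intro i j
    rw [polar, hts _ (add_mem (hum i) (hum j)), hus, hus]
    ring
  obtain ⟨g, hg, hgu⟩ := ClassicalGeometry.WittQuad.extend_family Q (H410.BR.nondegenerate_of_nondeg hG.nondeg)
    (n + 2) W.e u (linInd_e W) hu (fun i => by rw [W_e, hus]) (fun i j => by
      change polar Q _ _ = polar Q _ _
      rw [W_ee, hup])
  set l : Fin (n + 2) := Fin.last (n + 1) with hl
  have h0l : (0 : Fin (n + 2)) ≠ l := by
    rw [hl]
    intro h
    have := congrArg Fin.val h
    simp at this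
  have hv : Q (W.e l - W.f l) = -1 := by
    rw [sub_eq_add_neg, Q_add, QuadraticMap.map_neg, polar_neg_right, W_e, W_f, W_ef, if_pos rfl]
    ring
  have hv0 : Q (W.e l - W.f l) ≠ 0 := by
    rw [hv]; exact neg_ne_zero.2 one_ne_zero
  have hef : Hyp Q (W.e 0) (W.f 0) := ⟨W_e W 0, W_f W 0, by rw [W_ef, if_pos rfl]⟩
  obtain ⟨h, hh, k, hk, hgk, hT⟩ := coset hG hef hv0
    (by rw [sub_eq_add_neg, polar_add_right, polar_neg_right, W_ee, W_ef, if_neg h0l]; ring)
    (by rw [sub_eq_add_neg, polar_add_right, polar_neg_right, W_ff, W_fe, if_neg h0l]; ring) (show g ∈ O Q from hg)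
  have hpol : ∀ i, polar Q (W.e l - W.f l) (W.e i) = -(if l = i then 1 else 0) := by
    intro i
    rw [sub_eq_add_neg, polar_add_left, polar_neg_left, W_ee, W_fe, zero_add]
  -- the action of `k`
  have hkb : ∃ j : Bool, ∀ i : Fin (n + 2), ∃ a : F,
      k (W.e i) = a • (toFrame W).b (i, if (i : ℕ) = n + 1 then j else true) := by
    have hzero : ∀ j : Bool, ∃ a : F, k (W.e 0) = a • (toFrame W).b ((0 : Fin (n + 2)),
        if ((0 : Fin (n + 2)) : ℕ) = n + 1 then j else true) := by
      intro j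
      obtain ⟨a, ha⟩ := hT.he
      refine ⟨a, ?_⟩
      rw [if_neg (by simp), toFrame_b_true, ha]
    have h1 : ∀ i : Fin (n + 2), i ≠ 0 → polar Q (W.e 0) (W.e i) = 0 ∧ polar Q (W.f 0) (W.e i) = 0 := by
      intro i hi
      refine ⟨W_ee W _ _, ?_⟩
      rw [W_fe, if_neg (Ne.symm hi)]
    rcases hT.perp with hp | hp
    · refine ⟨true, fun i => ?_⟩
      rcases eq_or_ne i 0 with rfl | hi
      · exact hzero true
      · refine ⟨1, ?_⟩
        rw [hp _ (h1 i hi).1 (h1 i hi).2, ite_self, toFrame_b_true, one_smul]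
    · refine ⟨false, fun i => ?_⟩
      rcases eq_or_ne i 0 with rfl | hi
      · exact hzero false
      · refine ⟨1, ?_⟩
        rw [hp _ (h1 i hi).1 (h1 i hi).2, refl_apply, hv, one_smul]
        rcases eq_or_ne i l with rfl | hil
        · rw [if_pos (by simp [hl]), toFrame_b_false, hpol, if_pos rfl, inv_mul_cancel₀ (neg_ne_zero.2 one_ne_zero),
            one_smul, sub_sub_cancel]
        · have h2 : (i : ℕ) ≠ n + 1 := fun h => hil (Fin.ext (by simp [hl, h]))
          rw [if_neg h2, toFrame_b_true, hpol, if_neg (Ne.symm hil), neg_zero, mul_zero, zero_smul, sub_zero]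
  obtain ⟨j, hj⟩ := hkb
  refine ⟨h, hh, j, fun d hd => ?_⟩
  have hdn := hK d hd
  -- `c d` is spanned by the `u i`, `i < d`
  have hli : LinearIndependent F fun i : Fin d => u (Fin.castLE hdn i) :=
    hu.comp _ (Fin.castLE_injective hdn)
  have hle : Submodule.span F (Set.range fun i : Fin d => u (Fin.castLE hdn i)) ≤ c d := by
    rw [Submodule.span_le]
    rintro _ ⟨i, rfl⟩
    exact huc _ d hd i.2
  have heq : Submodule.span F (Set.range fun i : Fin d => u (Fin.castLE hdn i)) = c d := by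
    refine Submodule.eq_of_le_of_finrank_le hle ?_
    rw [hrk d hd, finrank_span_eq_card hli, Fintype.card_fin]
  refine Submodule.eq_of_le_of_finrank_le ?_ ?_
  · rw [← heq, Submodule.span_le]
    rintro _ ⟨i, rfl⟩
    obtain ⟨a, ha⟩ := hj (Fin.castLE hdn i)
    have h3 : u (Fin.castLE hdn i) = h (a • (toFrame W).b (Fin.castLE hdn i, if (i : ℕ) = n + 1 then j else true)) := by
      rw [← hgu, hgk]
      change h (k _) = _
      rw [ha]
      rfl
    change u (Fin.castLE hdn i) ∈ _
    rw [h3]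
    refine Submodule.mem_map_of_mem (Submodule.smul_mem _ _ (Submodule.subset_span ⟨Fin.castLE hdn i, i.2, rfl⟩))
  · rw [hrk d hd]
    refine le_trans ?_ (finrank_stdF_le W j hdn)
    exact (LinearEquiv.finrank_map_eq h _).le

end flags

end Cfsg.Agent.H560.FD
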